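import Groth.Agent.LinSub.Basic
import Groth.Agent.VarietyLib.CurveDegree

/-!
# Bundles trivial or split on a linear subspace
-/

set_option autoImplicit false
set_option linter.style.haveILetI false
set_option linter.unusedSectionVars false
set_option backward.isDefEq.respectTransparency.types false
set_option maxHeartbeats 1000000

universe u

open CategoryTheory CategoryTheory.Limits AlgebraicGeometry TopologicalSpace Opposite
open Groth.Agent Groth.Agent.Coherent Groth.Agent.PicLib Groth.Agent.AmpleLib Groth.Agent.CAlgH3.ModCohSeq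

namespace Groth.Agent.LinSub

variable {k : Type u} [Field k]

theorem V_of_pullback_iso {X Y : Scheme.{u}} (i : Y ⟶ X) [IsIso i] (M : X.Modules) [Coh.IsQCoh M] (q : ℕ)
    (h : V ((Scheme.Modules.pullback i).obj M) q) : V M q := by
  have h1 := CI14.V_pullback_of_iso (inv i) i M q h
  rw [IsIso.inv_hom_id] at h1
  exact V_of_iso ((Scheme.Modules.pullbackId X).app M) h1

attribute [local instance] Coherent.hasFiniteBiproducts in
theorem V_tw_split {m r : ℕ} (a : Fin r → ℤ) {F : (CohB1.ProjSpace m k).Modules}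
    (e : F ≅ ∐ fun j : Fin r => Twist.twistProjSpace m k (a j)) (t : ℤ) (q : ℕ)
    (h : ∀ j, Subsingleton (Coh.HH (CohB1.ProjSpace m k) (Twist.twistProjSpace m k (a j + t)) q)) :
    V (SplitP.tw F t) q :=
  SplitP.subsingleton_HH_tw_sum a (e ≪≫ (biproduct.isoCoproduct _).symm) t q h

/-- A bundle trivial on a linear subspace of positive dimension has no sections in negative twists. -/
theorem vanishing_of_trivial {m : ℕ} (hm : 1 ≤ m) (r : ℕ) : ∀ (n : ℕ) (E : (CohB1.ProjSpace n k).Modules),
    FlatMod.IsFinLocFree E → ∀ (i : CohB1.ProjSpace m k ⟶ CohB1.ProjSpace n k) [IsClosedImmersion i],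
    i ≫ CohB1.ProjSpace.toSpec n k = CohB1.ProjSpace.toSpec m k →
    Nonempty ((Scheme.Modules.pullback i).obj (Twist.twistProjSpace n k 1) ≅ Twist.twistProjSpace m k 1) →
    Nonempty ((Scheme.Modules.pullback i).obj E ≅ FlatMod.freeMod (CohB1.ProjSpace m k) r) →
    ∀ t : ℤ, t < 0 → V (SplitP.tw E t) 0 := by
  intro n
  induction n with
  | zero => intro E hE i _ hi hO he t ht; have := le_of_linear i; omega
  | succ n ih =>
    intro E hE i _ hi hO he t ht
    rcases eq_or_lt_of_le (le_of_linear i) with hmn | hmn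
    · subst hmn
      haveI := isIso_of_linear i
      have hM : FlatMod.IsFinLocFree (SplitP.tw E t) := ExtFilt28.isFinLocFree_tensor hE (EulerPn5.isFinLocFree_twist _)
      haveI := CAlgH3.LocFreeFactor.isQCoh_of_finLocFree hM
      obtain ⟨b⟩ := pullback_tw i hO E t
      obtain ⟨e⟩ := he
      obtain ⟨z⟩ := TwistLib.nonempty_twist_zero_iso (𝒜 := CohB1.polyGrading (n + 1) k)
      refine V_of_pullback_iso i _ 0 (V_of_iso b.symm ?_)
      exact V_tw_split (fun _ => 0) (e ≪≫ Sigma.mapIso fun _ => z.symm) t 0 fun j =>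
        subsingleton_HH_twist (n := n + 1) (R := k) (d := 0 + t) 0 (fun h => by omega) (fun h => by omega)
    · obtain ⟨J, φ, i', _, hi', hO', hfac, hjO, hJ, hJe⟩ := exists_factor i hi hO (by omega)
      have hEj : FlatMod.IsFinLocFree ((Scheme.Modules.pullback (φ.hom ≫ J.subschemeι)).obj E) :=
        DCat.PullPerf.isFinLocFree_pullback _ hE
      have hH := ih _ hEj i' hi' hO' ⟨(Scheme.Modules.pullbackComp i' _).app E ≪≫
        (Scheme.Modules.pullbackCongr hfac).app E ≪≫ he.some⟩
      haveI : IsProper ((CohB1.ProjSpace (n + 1) k) ↘ Spec (CommRingCat.of k)) := isProper_projSpace_toSpec (n + 1) k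
      haveI := EulerLib.isNoetherian_of_proper (k := k) (X := CohB1.ProjSpace (n + 1) k)
      obtain ⟨n₀, hn₀⟩ := SplitP.exists_vanishing_zero (K := k) (d := n + 1) (by omega)
        (CohBC.isCoh_of_isFinLocFree hE) hE
      by_cases hle : t ≤ n₀
      · exact hn₀ t hle
      · obtain ⟨d, rfl⟩ : ∃ d : ℕ, t = n₀ + d := ⟨(t - n₀).natAbs, by omega⟩
        clear hle
        induction d with
        | zero => simpa [V] using hn₀ n₀ le_rfl
        | succ d ihd =>
          refine (restrict_vanishing J φ hJ hJe hjO hE _ 0).1 ?_ (hH _ ht)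
          rw [show n₀ + ((d + 1 : ℕ) : ℤ) - 1 = n₀ + d by push_cast; ring]
          exact ihd (by push_cast at ht; omega)

attribute [local instance] Coherent.hasFiniteBiproducts in
/-- A bundle which splits on a linear subspace of dimension at least two splits. -/
theorem split_of_split {m : ℕ} (hm : 2 ≤ m) {r : ℕ} : ∀ (n : ℕ) (E : (CohB1.ProjSpace n k).Modules),
    FlatMod.IsFinLocFreeOfRank r E → ∀ (i : CohB1.ProjSpace m k ⟶ CohB1.ProjSpace n k) [IsClosedImmersion i],
    i ≫ CohB1.ProjSpace.toSpec n k = CohB1.ProjSpace.toSpec m k →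
    Nonempty ((Scheme.Modules.pullback i).obj (Twist.twistProjSpace n k 1) ≅ Twist.twistProjSpace m k 1) →
    (∃ a : Fin r → ℤ, Nonempty ((Scheme.Modules.pullback i).obj E ≅ ∐ fun j : Fin r => Twist.twistProjSpace m k (a j))) →
    ∃ b : Fin r → ℤ, Nonempty (E ≅ ∐ fun j : Fin r => Twist.twistProjSpace n k (b j)) := by
  intro n
  induction n with
  | zero => intro E hE i _ hi hO he; have := le_of_linear i; omega
  | succ n ih =>
    intro E hE i _ hi hO he
    obtain ⟨a, ⟨e⟩⟩ := he
    rcases eq_or_lt_of_le (le_of_linear i) with hmn | hmn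
    · subst hmn
      haveI := isIso_of_linear i
      refine ⟨a, ⟨?_⟩⟩
      haveI := (Scheme.Modules.pullbackPushforwardAdjunction (inv i)).leftAdjoint_preservesColimits
      have hOi : ∀ t : ℤ, Nonempty ((Scheme.Modules.pullback (inv i)).obj (Twist.twistProjSpace (n + 1) k t) ≅
          Twist.twistProjSpace (n + 1) k t) := fun t => by
        obtain ⟨b⟩ := pullback_twist i hO t
        exact ⟨(Scheme.Modules.pullback (inv i)).mapIso b.symm ≪≫ (Scheme.Modules.pullbackComp (inv i) i).app _ ≪≫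
          (Scheme.Modules.pullbackCongr (IsIso.inv_hom_id i)).app _ ≪≫ (Scheme.Modules.pullbackId _).app _⟩
      exact ((Scheme.Modules.pullbackId _).app E).symm ≪≫
        (Scheme.Modules.pullbackCongr (IsIso.inv_hom_id i).symm).app E ≪≫
        ((Scheme.Modules.pullbackComp (inv i) i).app E).symm ≪≫ (Scheme.Modules.pullback (inv i)).mapIso e ≪≫
        PreservesCoproduct.iso _ _ ≪≫ Sigma.mapIso fun j => (hOi (a j)).some
    · obtain ⟨J, φ, i', _, hi', hO', hfac, hjO, hJ, hJe⟩ := exists_factor i hi hO (by omega)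
      have hloc : FlatMod.IsFinLocFree E := LocFreeLib.isFinLocFree_of_rank hE
      obtain ⟨c, ⟨ec⟩⟩ := ih _ (VarietyLib.isFinLocFreeOfRank_pullback (φ.hom ≫ J.subschemeι) hE) i' hi' hO'
        ⟨a, ⟨(Scheme.Modules.pullbackComp i' _).app E ≪≫ (Scheme.Modules.pullbackCongr hfac).app E ≪≫ e⟩⟩
      have hH : ∀ (t : ℤ) (q : ℕ), 1 ≤ q → q < n →
          V (SplitP.tw ((Scheme.Modules.pullback (φ.hom ≫ J.subschemeι)).obj E) t) q := fun t q h1 h2 =>
        V_tw_split c ec t q fun j =>
          subsingleton_HH_twist (n := n) (R := k) (d := c j + t) q (fun h => by omega) (fun h => by omega)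
      haveI : IsProper ((CohB1.ProjSpace (n + 1) k) ↘ Spec (CommRingCat.of k)) := isProper_projSpace_toSpec (n + 1) k
      haveI := EulerLib.isNoetherian_of_proper (k := k) (X := CohB1.ProjSpace (n + 1) k)
      have hcoh : Coh.IsCoh E := CohBC.isCoh_of_isFinLocFree hloc
      obtain ⟨N₁, hN₁⟩ := SerreDual.exists_vanishing_neg hloc
      obtain ⟨N₂, hN₂⟩ := SerreDual.exists_vanishing_twist hcoh
      have hup : ∀ (q : ℕ), 1 ≤ q → q < n → ∀ d : ℕ, V (SplitP.tw E (-(N₁ : ℤ) + d)) q := by
        intro q h1 h2 d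
        induction d with
        | zero =>
          rw [Nat.cast_zero, add_zero]
          exact hN₁ N₁ le_rfl q (by omega)
        | succ d ihd =>
          refine (restrict_vanishing J φ hJ hJe hjO hloc _ q).1 ?_ (hH _ q h1 h2)
          rw [show -(N₁ : ℤ) + ((d + 1 : ℕ) : ℤ) - 1 = -(N₁ : ℤ) + d by push_cast; ring]
          exact ihd
      have hmid : ∀ (t : ℤ) (q : ℕ), 1 ≤ q → q < n + 1 → V (SplitP.tw E t) q := by
        intro t q h1 h2
        rcases eq_or_lt_of_le h1 with rfl | h1'
        · rcases le_or_gt t (-(N₁ : ℤ)) with hle | hgt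
          · obtain ⟨N, rfl⟩ : ∃ N : ℕ, t = -(N : ℤ) := ⟨t.natAbs, by omega⟩
            exact hN₁ N (by omega) 1 (by omega)
          · obtain ⟨d, rfl⟩ : ∃ d : ℕ, t = -(N₁ : ℤ) + d := ⟨(t + N₁).natAbs, by omega⟩
            exact hup 1 le_rfl (by omega) d
        · obtain ⟨p, rfl⟩ : ∃ p, q = p + 1 := ⟨q - 1, by omega⟩
          rcases le_or_gt (N₂ : ℤ) t with hge | hlt
          · obtain ⟨N, rfl⟩ : ∃ N : ℕ, t = (N : ℤ) := ⟨t.natAbs, by omega⟩
            exact hN₂ N (by omega) _ (by omega)
          · obtain ⟨d, rfl⟩ : ∃ d : ℕ, t = (N₂ : ℤ) - d := ⟨((N₂ : ℤ) - t).natAbs, by omega⟩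
            clear hlt
            induction d with
            | zero =>
              rw [Nat.cast_zero, sub_zero]
              exact hN₂ N₂ le_rfl (p + 1) (by omega)
            | succ d ihd =>
              have h := (restrict_vanishing J φ hJ hJe hjO hloc ((N₂ : ℤ) - d) p).2 (hH _ p (by omega) (by omega)) ihd
              rwa [show (N₂ : ℤ) - ((d + 1 : ℕ) : ℤ) = (N₂ : ℤ) - d - 1 by push_cast; ring]
      obtain ⟨n₀, hn₀⟩ := SplitP.exists_vanishing_zero (K := k) (d := n + 1) (by omega) hcoh hloc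
      obtain ⟨s, b, ⟨eb⟩⟩ := SplitP.exists_split (by omega) n₀ _ E hcoh hn₀ hmid le_rfl
      haveI := CurveLib.isIntegral_projSpace k (n + 1)
      obtain rfl := SplitP.card_eq_rank hE b eb (genericPoint (CohB1.ProjSpace (n + 1) k))
      exact ⟨b, ⟨eb ≪≫ biproduct.isoCoproduct _⟩⟩

end Groth.Agent.LinSub
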