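import Groth.Agent.LinSub.Hyperplane
import Groth.Agent.EulerPn5.TangentHyp
import Groth.Agent.EulerPn5.SplitPull
import Groth.Agent.SplitP.Apps
import Groth.Agent.Inters29.Vertical
import Groth.Agent.Surf15.JetSections
import Groth.Agent.SerreDual.CMDual
import Groth.Agent.DCat.PullPerf

/-!
# Linear subspaces of projective space

* `exists_factor`: a linear subspace factors through a hyperplane.
* `isIso_of_linear`: a linear subspace of full dimension is everything.
* `restrict_vanishing`: the sequence of a hyperplane, in cohomology.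
-/

set_option autoImplicit false
set_option linter.style.haveILetI false
set_option linter.unusedSectionVars false
set_option backward.isDefEq.respectTransparency.types false
set_option maxHeartbeats 1000000

universe u

open CategoryTheory CategoryTheory.Limits AlgebraicGeometry TopologicalSpace Opposite
open Groth.Agent Groth.Agent.Coherent Groth.Agent.PicLib Groth.Agent.AmpleLib Groth.Agent.CAlgH3.ModCohSeq

namespace Groth.Agent.LinSub

variable {k : Type u} [Field k]

theorem lsec_smul (m : ℕ) (a : k) (d : Fin (m + 1) → k) :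
    (HypLib.lsec m (a • d) : Γ(Twist.twistProjSpace m k 1, ⊤)) =
      ProjUP.toGlobal (CohB1.ProjSpace.toSpec m k) a • (HypLib.lsec m d : Γ(Twist.twistProjSpace m k 1, ⊤)) := by
  obtain ⟨J, hJ⟩ := HypLib.exists_iso_id (Twist.twistProjSpace m k 1)
  have h := HypLib.pullSec_lsec_smul m (𝟙 (CohB1.ProjSpace m k)) a d
  rw [Category.id_comp] at h
  apply (ConcreteCategory.bijective_of_isIso (J.hom.app ⊤)).1
  rw [Scheme.Modules.Hom.app_smul]
  exact (hJ _).trans (h.trans (congrArg (_ • ·) (hJ _).symm))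

/-- The linear forms, as an additive map. -/
noncomputable def lsecHom (m : ℕ) : (Fin (m + 1) → k) →+ Γ(Twist.twistProjSpace m k 1, ⊤) :=
  AddMonoidHom.mk' (fun d => HypLib.lsec m d) (HypLib.lsec_add m)

theorem pull_add {X Y : Scheme.{u}} (i : X ⟶ Y) {A B C : Y.Modules} {A' B' C' : X.Modules}
    (e : CohB1.tensorMod A B ≅ C) (e' : CohB1.tensorMod A' B' ≅ C')
    (a : (Scheme.Modules.pullback i).obj A ≅ A') (b : (Scheme.Modules.pullback i).obj B ≅ B') :
    Nonempty ((Scheme.Modules.pullback i).obj C ≅ C') :=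
  ⟨(Scheme.Modules.pullback i).mapIso e.symm ≪≫ DCat.PullTensor.pullTensorIso i A B ≪≫ AmpleLib.tensorIso a b ≪≫ e'⟩

theorem pull_unit {X Y : Scheme.{u}} (i : X ⟶ Y) {A : Y.Modules} {A' : X.Modules}
    (a : A ≅ Coh.structureModule Y) (a' : A' ≅ Coh.structureModule X) :
    Nonempty ((Scheme.Modules.pullback i).obj A ≅ A') := by
  obtain ⟨c⟩ := AmpleLib.exists_pullStructureIso i
  exact ⟨(Scheme.Modules.pullback i).mapIso a ≪≫ c ≪≫ a'.symm⟩

theorem pull_tensor {X Y : Scheme.{u}} (i : X ⟶ Y) (E : Y.Modules) {A : Y.Modules} {A' : X.Modules}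
    (a : (Scheme.Modules.pullback i).obj A ≅ A') :
    Nonempty ((Scheme.Modules.pullback i).obj (CohB1.tensorMod E A) ≅
      CohB1.tensorMod ((Scheme.Modules.pullback i).obj E) A') :=
  ⟨DCat.PullTensor.pullTensorIso i E A ≪≫ AmpleLib.tensorIso (Iso.refl _) a⟩

theorem pullback_twist {m n : ℕ} (i : CohB1.ProjSpace m k ⟶ CohB1.ProjSpace n k)
    (hO : Nonempty ((Scheme.Modules.pullback i).obj (Twist.twistProjSpace n k 1) ≅ Twist.twistProjSpace m k 1))
    (t : ℤ) :
    Nonempty ((Scheme.Modules.pullback i).obj (Twist.twistProjSpace n k t) ≅ Twist.twistProjSpace m k t) := by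
  induction t using Int.induction_on with
  | zero =>
    exact pull_unit i (TwistLib.nonempty_twist_zero_iso (𝒜 := CohB1.polyGrading n k)).some
      (TwistLib.nonempty_twist_zero_iso (𝒜 := CohB1.polyGrading m k)).some
  | succ t ih =>
    exact pull_add i (SerreDual.nonempty_twist_tensor n k (rfl : (t : ℤ) + 1 = (t : ℤ) + 1)).some
      (SerreDual.nonempty_twist_tensor m k (rfl : (t : ℤ) + 1 = (t : ℤ) + 1)).some ih.some hO.some
  | pred t ih =>
    exact pull_add i (SerreDual.nonempty_twist_tensor n k (show -(t : ℤ) + -1 = -(t : ℤ) - 1 by ring)).some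
      (SerreDual.nonempty_twist_tensor m k (show -(t : ℤ) + -1 = -(t : ℤ) - 1 by ring)).some ih.some
      (EulerPn5.nonempty_pullback_twist_neg i hO).some

theorem pullback_tw {m n : ℕ} (i : CohB1.ProjSpace m k ⟶ CohB1.ProjSpace n k)
    (hO : Nonempty ((Scheme.Modules.pullback i).obj (Twist.twistProjSpace n k 1) ≅ Twist.twistProjSpace m k 1))
    (E : (CohB1.ProjSpace n k).Modules) (t : ℤ) :
    Nonempty ((Scheme.Modules.pullback i).obj (SplitP.tw E t) ≅ SplitP.tw ((Scheme.Modules.pullback i).obj E) t) :=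
  pull_tensor i E (pullback_twist i hO t).some

/-- The linear forms killing a linear subspace of smaller dimension. -/
theorem exists_forms {m n : ℕ} (i : CohB1.ProjSpace m k ⟶ CohB1.ProjSpace (n + 1) k)
    (hi : i ≫ CohB1.ProjSpace.toSpec (n + 1) k = CohB1.ProjSpace.toSpec m k)
    (hO : Nonempty ((Scheme.Modules.pullback i).obj (Twist.twistProjSpace (n + 1) k 1) ≅ Twist.twistProjSpace m k 1)) :
    ∃ W : Submodule k (Fin (n + 2) → k), n + 2 ≤ Module.finrank k W + (m + 1) ∧
      ∀ c ∈ W, c ≠ 0 →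
        unitDesc (Twist.twistProjSpace (n + 1) k 1) (HypLib.lsec (n + 1) c) ≠ 0 ∧
        PicLib.pullSec i (unitVal (unitDesc (Twist.twistProjSpace (n + 1) k 1) (HypLib.lsec (n + 1) c)) ⊤) = 0 := by
  classical
  obtain ⟨τ⟩ := hO
  let O1 := Twist.twistProjSpace (n + 1) k 1
  have hd : ∀ j : Fin (n + 2), ∃ d : Fin (m + 1) → k,
      τ.hom.app ⊤ (ProjUP.pullSec i O1 (ProjUP.coord (n + 1) k j)) = (HypLib.lsec m d : Γ(Twist.twistProjSpace m k 1, ⊤)) := by
    intro j
    obtain ⟨d, hd⟩ := HypLib.exists_lsec m (unitDesc _ (τ.hom.app ⊤ (ProjUP.pullSec i O1 (ProjUP.coord (n + 1) k j))))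
    rw [unitVal_unitDesc, resM_self] at hd
    exact ⟨d, hd⟩
  choose d hd using hd
  let T : (Fin (n + 2) → k) →ₗ[k] (Fin (m + 1) → k) := Fintype.linearCombination k d
  refine ⟨LinearMap.ker T, ?_, fun c hcT hc0 => ⟨fun h => ?_, ?_⟩⟩
  · have h1 := T.finrank_range_add_finrank_ker
    have h2 : Module.finrank k (LinearMap.range T) ≤ m + 1 :=
      (Submodule.finrank_le _).trans (Module.finrank_fin_fun k).le
    rw [Module.finrank_fin_fun] at h1
    omega
  · obtain ⟨j, hj⟩ := Function.ne_iff.1 hc0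
    have hb := (TwistDom24.globalOf_bijective (𝒜 := CohB1.polyGrading (n + 1) k) (hmul (n + 1)) (hone (n + 1)) 1).1
    have h2 : (HypLib.lsec (n + 1) c : Γ(O1, ⊤)) = HypLib.lsec (n + 1) 0 := by
      have h3 := congrArg (fun z => unitVal z ⊤) h
      simp only [unitVal_unitDesc, resM_self] at h3
      rw [h3]
      exact ((lsecHom (n + 1)).map_zero.trans (Eq.symm rfl)).symm
    have h4 : UPLib.linForm (n + 1) c = UPLib.linForm (n + 1) 0 := congrArg Subtype.val (hb h2)
    rw [map_zero] at h4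
    exact hc0 (linForm_inj (n + 1) c h4)
  · rw [unitVal_unitDesc, resM_self]
    apply (ConcreteCategory.bijective_of_isIso (τ.hom.app ⊤)).1
    refine Eq.trans ?_ (map_zero (τ.hom.app ⊤).hom).symm
    refine (congrArg _ (HypLib.pullSec_lsec (n + 1) i c)).trans ?_
    rw [map_sum]
    have hT : ∑ j, c j • d j = 0 := by
      rw [← Fintype.linearCombination_apply (R := k) d c]
      exact hcT
    calc _ = ∑ j, lsecHom m (c j • d j) := Finset.sum_congr rfl fun j _ => by
          rw [Scheme.Modules.Hom.app_smul, hi]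
          exact (congrArg (_ • ·) (hd j)).trans (lsec_smul m (c j) (d j)).symm
      _ = 0 := by rw [← map_sum, hT, map_zero]
where
  hmul (l : ℕ) : ∀ i : ℕ, CohB1.polyGrading l k 1 * CohB1.polyGrading l k i = CohB1.polyGrading l k (i + 1) := fun i => by
    show MvPolynomial.homogeneousSubmodule _ _ 1 * MvPolynomial.homogeneousSubmodule _ _ i = _
    rw [← MvPolynomial.homogeneousSubmodule_one_pow (σ := Fin (l + 1)) (R := k) i, ← pow_succ', MvPolynomial.homogeneousSubmodule_one_pow]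
  hone (l : ℕ) : CohB1.polyGrading l k 1 ≠ ⊥ := fun h =>
    MvPolynomial.X_ne_zero (R := k) (0 : Fin (l + 1))
      ((Submodule.mem_bot k).1 (h ▸ MvPolynomial.isHomogeneous_X k (0 : Fin (l + 1))))
  linForm_inj (l : ℕ) (c : Fin (l + 1) → k) (h : UPLib.linForm l c = 0) : c = 0 := by
    funext j
    have := congrArg (MvPolynomial.coeff (Finsupp.single j 1)) h
    simpa [UPLib.linForm, Module.Basis.constr_apply_fintype, MvPolynomial.coeff_sum, MvPolynomial.coeff_X',
      Finset.sum_ite_eq', Finsupp.single_left_inj] using this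

/-- A linear subspace of smaller dimension lies in a hyperplane. -/
theorem exists_section {m n : ℕ} (i : CohB1.ProjSpace m k ⟶ CohB1.ProjSpace (n + 1) k)
    (hi : i ≫ CohB1.ProjSpace.toSpec (n + 1) k = CohB1.ProjSpace.toSpec m k)
    (hO : Nonempty ((Scheme.Modules.pullback i).obj (Twist.twistProjSpace (n + 1) k 1) ≅ Twist.twistProjSpace m k 1))
    (hm : m ≤ n) :
    ∃ s : Coh.structureModule (CohB1.ProjSpace (n + 1) k) ⟶ Twist.twistProjSpace (n + 1) k 1,
      s ≠ 0 ∧ PicLib.pullSec i (unitVal s ⊤) = 0 := by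
  obtain ⟨W, hW, h⟩ := exists_forms i hi hO
  have hne : W ≠ ⊥ := fun h0 => by rw [h0, finrank_bot] at hW; omega
  obtain ⟨c, hc, hc0⟩ := Submodule.exists_mem_ne_zero_of_ne_bot hne
  exact ⟨_, h c hc hc0⟩

/-- A linear subspace killing a linear form factors through its hyperplane. -/
theorem exists_factor_of_section {m n : ℕ} (i : CohB1.ProjSpace m k ⟶ CohB1.ProjSpace (n + 1) k) [IsClosedImmersion i]
    (hi : i ≫ CohB1.ProjSpace.toSpec (n + 1) k = CohB1.ProjSpace.toSpec m k)
    (hO : Nonempty ((Scheme.Modules.pullback i).obj (Twist.twistProjSpace (n + 1) k 1) ≅ Twist.twistProjSpace m k 1))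
    (s : Coh.structureModule (CohB1.ProjSpace (n + 1) k) ⟶ Twist.twistProjSpace (n + 1) k 1) (hs : s ≠ 0)
    (hsi : PicLib.pullSec i (unitVal s ⊤) = 0) :
    ∃ (φ : CohB1.ProjSpace n k ≅ (PicF2.zeroScheme (Twist.twistProjSpace (n + 1) k 1) s).subscheme)
      (i' : CohB1.ProjSpace m k ⟶ CohB1.ProjSpace n k),
      IsClosedImmersion i' ∧ i' ≫ CohB1.ProjSpace.toSpec n k = CohB1.ProjSpace.toSpec m k ∧
      Nonempty ((Scheme.Modules.pullback i').obj (Twist.twistProjSpace n k 1) ≅ Twist.twistProjSpace m k 1) ∧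
      i' ≫ φ.hom ≫ (PicF2.zeroScheme (Twist.twistProjSpace (n + 1) k 1) s).subschemeι = i ∧
      (φ.hom ≫ (PicF2.zeroScheme (Twist.twistProjSpace (n + 1) k 1) s).subschemeι) ≫ CohB1.ProjSpace.toSpec (n + 1) k =
        CohB1.ProjSpace.toSpec n k ∧
      Nonempty ((Scheme.Modules.pullback (φ.hom ≫ (PicF2.zeroScheme (Twist.twistProjSpace (n + 1) k 1) s).subschemeι)).obj
        (Twist.twistProjSpace (n + 1) k 1) ≅ Twist.twistProjSpace n k 1) ∧
      PicF.IsInvertible (ClSub.idealMod (PicF2.zeroScheme (Twist.twistProjSpace (n + 1) k 1) s)) ∧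
      Nonempty (ClSub.idealMod (PicF2.zeroScheme (Twist.twistProjSpace (n + 1) k 1) s) ≅
        Twist.twistProjSpace (n + 1) k (-1)) := by
  have hL := HypLib.isInvertible_one (R := k) (n + 1)
  obtain ⟨φ, hφ, hφO⟩ := exists_hyperplane k n s hs
  let J := PicF2.zeroScheme (Twist.twistProjSpace (n + 1) k 1) s
  haveI := CurveLib.isIntegral_projSpace k (n + 1)
  have hne : unitVal s ⊤ ≠ 0 := fun h => hs (by
    rw [← unitDesc_unitVal s, h, ← unitVal_zero, unitDesc_unitVal])
  have hcart : BlowUp.IsEffCartierIdeal J := Surf15.isEffCartier_zeroScheme_of_ne_zero hL s hne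
  obtain ⟨e⟩ := Inters29.nonempty_tensor_zeroScheme_iso hL s hcart
  have hJ : PicF.IsInvertible (ClSub.idealMod J) := FlatMor12.IdealModGen.isInvertible_idealMod J hcart
  obtain ⟨a⟩ := SerreDual.nonempty_twist_tensor (n + 1) k (show (1 : ℤ) + -1 = 0 by norm_num)
  obtain ⟨b⟩ := TwistLib.nonempty_twist_zero_iso (𝒜 := CohB1.polyGrading (n + 1) k)
  have hJe := SerreDual.nonempty_iso_of_inverse hL (SerreDual.isInvertible_twist (n + 1) k (-1)) e (a ≪≫ b)
  have hker : J.subschemeι.ker ≤ i.ker := by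
    rw [Scheme.IdealSheafData.ker_subschemeι]
    exact HypLib.zeroScheme_le_ker i hL s hsi
  let l := IsClosedImmersion.lift J.subschemeι i hker
  have hl : l ≫ J.subschemeι = i := IsClosedImmersion.lift_fac _ _ hker
  let i' := l ≫ φ.inv
  have hfac : i' ≫ φ.hom ≫ J.subschemeι = i := by
    rw [Category.assoc, φ.inv_hom_id_assoc, hl]
  haveI : IsClosedImmersion (i' ≫ φ.hom ≫ J.subschemeι) := by rw [hfac]; infer_instance
  refine ⟨φ, i', IsClosedImmersion.of_comp i' (φ.hom ≫ J.subschemeι), ?_, ?_, hfac, (Category.assoc _ _ _).trans hφ, hφO, hJ, hJe⟩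
  · exact ((congrArg (i' ≫ ·) hφ.symm).trans ((Category.assoc i' (φ.hom ≫ J.subschemeι) _).trans (congrArg (i' ≫ ·) (Category.assoc φ.hom _ _))).symm).trans ((congrArg (· ≫ _) hfac).trans hi)
  · obtain ⟨c⟩ := hφO
    obtain ⟨d⟩ := hO
    exact ⟨(Scheme.Modules.pullback i').mapIso c.symm ≪≫ (Scheme.Modules.pullbackComp i' _).app _ ≪≫
      (Scheme.Modules.pullbackCongr hfac).app _ ≪≫ d⟩
where
  unitVal_zero {X : Scheme.{u}} {L : X.Modules} : unitVal (0 : Coh.structureModule X ⟶ L) ⊤ = 0 := rfl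

/-- A linear subspace factors through a hyperplane. -/
theorem exists_factor {m n : ℕ} (i : CohB1.ProjSpace m k ⟶ CohB1.ProjSpace (n + 1) k) [IsClosedImmersion i]
    (hi : i ≫ CohB1.ProjSpace.toSpec (n + 1) k = CohB1.ProjSpace.toSpec m k)
    (hO : Nonempty ((Scheme.Modules.pullback i).obj (Twist.twistProjSpace (n + 1) k 1) ≅ Twist.twistProjSpace m k 1))
    (hm : m ≤ n) :
    ∃ (J : (CohB1.ProjSpace (n + 1) k).IdealSheafData) (φ : CohB1.ProjSpace n k ≅ J.subscheme)
      (i' : CohB1.ProjSpace m k ⟶ CohB1.ProjSpace n k),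
      IsClosedImmersion i' ∧ i' ≫ CohB1.ProjSpace.toSpec n k = CohB1.ProjSpace.toSpec m k ∧
      Nonempty ((Scheme.Modules.pullback i').obj (Twist.twistProjSpace n k 1) ≅ Twist.twistProjSpace m k 1) ∧
      i' ≫ φ.hom ≫ J.subschemeι = i ∧
      Nonempty ((Scheme.Modules.pullback (φ.hom ≫ J.subschemeι)).obj (Twist.twistProjSpace (n + 1) k 1) ≅
        Twist.twistProjSpace n k 1) ∧
      PicF.IsInvertible (ClSub.idealMod J) ∧
      Nonempty (ClSub.idealMod J ≅ Twist.twistProjSpace (n + 1) k (-1)) := by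
  obtain ⟨s, hs, hsi⟩ := exists_section i hi hO hm
  obtain ⟨φ, i', h1, h2, h3, h4, -, h5, h6, h7⟩ := exists_factor_of_section i hi hO s hs hsi
  exact ⟨_, φ, i', h1, h2, h3, h4, h5, h6, h7⟩

theorem le_of_linear {m n : ℕ} (i : CohB1.ProjSpace m k ⟶ CohB1.ProjSpace n k) [IsClosedImmersion i] : m ≤ n := by
  have h := i.isClosedEmbedding.isInducing.topologicalKrullDim_le
  rw [DimLib.PN.topologicalKrullDim_projSpace m k, DimLib.PN.topologicalKrullDim_projSpace n k] at h
  exact_mod_cast h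

theorem isIso_of_linear {n : ℕ} (i : CohB1.ProjSpace n k ⟶ CohB1.ProjSpace n k) [IsClosedImmersion i] : IsIso i := by
  haveI := CurveLib.isIntegral_projSpace k n
  have hr : Set.range i = Set.univ := by
    by_contra hne
    have hc := i.isClosedEmbedding.isClosed_range
    have hη : genericPoint (CohB1.ProjSpace n k) ∉ Set.range i := fun h => hne (Set.univ_subset_iff.1
      ((genericPoint_spec (CohB1.ProjSpace n k)).symm ▸ (hc.closure_subset_iff.2 (Set.singleton_subset_iff.2 h))))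
    have hlt := EulerLib.dim_lt_of_notMem hc (Set.subset_univ _) isClosed_univ
      (genericPoint_spec (CohB1.ProjSpace n k)) hη (r := n)
      (((IsHomeomorph.topologicalKrullDim_eq _ (Homeomorph.Set.univ _).isHomeomorph)).trans
        (DimLib.PN.topologicalKrullDim_projSpace n k)).le
    have he := (i.isClosedEmbedding.isEmbedding.toHomeomorph).isHomeomorph
    rw [← IsHomeomorph.topologicalKrullDim_eq _ he, DimLib.PN.topologicalKrullDim_projSpace n k] at hlt
    exact lt_irrefl _ hlt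
  haveI : Surjective i := ⟨Set.range_eq_univ.1 hr⟩
  exact isIso_of_isClosedImmersion_of_surjective i

/-- Cohomology of `E(t)|H` computed on `P^n`. -/
theorem V_push {n : ℕ} (J : (CohB1.ProjSpace (n + 1) k).IdealSheafData)
    (φ : CohB1.ProjSpace n k ≅ J.subscheme)
    (hO : Nonempty ((Scheme.Modules.pullback (φ.hom ≫ J.subschemeι)).obj (Twist.twistProjSpace (n + 1) k 1) ≅
      Twist.twistProjSpace n k 1))
    {E : (CohB1.ProjSpace (n + 1) k).Modules} (hE : FlatMod.IsFinLocFree E) (t : ℤ) (q : ℕ)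
    (h : V (SplitP.tw ((Scheme.Modules.pullback (φ.hom ≫ J.subschemeι)).obj E) t) q) :
    V ((Scheme.Modules.pushforward J.subschemeι).obj ((Scheme.Modules.pullback J.subschemeι).obj (SplitP.tw E t))) q := by
  have hM : FlatMod.IsFinLocFree (SplitP.tw E t) := ExtFilt28.isFinLocFree_tensor hE (EulerPn5.isFinLocFree_twist _)
  haveI := CAlgH3.LocFreeFactor.isQCoh_of_finLocFree hM
  haveI := EGA43.InjFibre.isQCoh_pullback J.subschemeι (SplitP.tw E t)
  obtain ⟨b⟩ := pullback_tw (φ.hom ≫ J.subschemeι) hO E t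
  haveI : Coh.IsQCoh ((Scheme.Modules.pullback (φ.hom ≫ J.subschemeι)).obj (SplitP.tw E t)) :=
    EGA43.InjFibre.isQCoh_pullback _ _
  have h1 := CI14.V_pullback_of_iso φ.inv (φ.hom ≫ J.subschemeι) (SplitP.tw E t) q (V_of_iso b.symm h)
  rw [φ.inv_hom_id_assoc] at h1
  exact (CI14.V_push_iff J.subschemeι ((Scheme.Modules.pullback J.subschemeι).obj (SplitP.tw E t)) q).2 h1

/-- The sequence `0 → E(t-1) → E(t) → E(t)|H → 0` of a hyperplane in cohomology. -/
theorem restrict_vanishing {n : ℕ} (J : (CohB1.ProjSpace (n + 1) k).IdealSheafData)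
    (φ : CohB1.ProjSpace n k ≅ J.subscheme) (hJ : PicF.IsInvertible (ClSub.idealMod J))
    (hJe : Nonempty (ClSub.idealMod J ≅ Twist.twistProjSpace (n + 1) k (-1)))
    (hO : Nonempty ((Scheme.Modules.pullback (φ.hom ≫ J.subschemeι)).obj (Twist.twistProjSpace (n + 1) k 1) ≅
      Twist.twistProjSpace n k 1))
    {E : (CohB1.ProjSpace (n + 1) k).Modules} (hE : FlatMod.IsFinLocFree E) (t : ℤ) (q : ℕ) :
    (V (SplitP.tw E (t - 1)) q → V (SplitP.tw ((Scheme.Modules.pullback (φ.hom ≫ J.subschemeι)).obj E) t) q →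
      V (SplitP.tw E t) q) ∧
    (V (SplitP.tw ((Scheme.Modules.pullback (φ.hom ≫ J.subschemeι)).obj E) t) q → V (SplitP.tw E t) (q + 1) →
      V (SplitP.tw E (t - 1)) (q + 1)) := by
  let M := SplitP.tw E t
  have hM : FlatMod.IsFinLocFree M := ExtFilt28.isFinLocFree_tensor hE (EulerPn5.isFinLocFree_twist _)
  have hS := EulerPn5.divSeq_shortExact_locFree J hJ hM
  obtain ⟨e⟩ := hJe
  obtain ⟨a⟩ := SplitP.nonempty_tw_tw E (show t + -1 = t - 1 by ring)
  let e₁ : (CI14.divSeq J hJ M).X₁ ≅ SplitP.tw E (t - 1) := AmpleLib.tensorIso (Iso.refl M) e ≪≫ a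
  have key : V (SplitP.tw ((Scheme.Modules.pullback (φ.hom ≫ J.subschemeι)).obj E) t) q →
      V (CI14.divSeq J hJ M).X₃ q := fun h => V_push J φ hO hE t q h
  exact ⟨fun h₁ h₃ => V_mid hS (V_of_iso e₁.symm h₁) (key h₃),
    fun h₃ h₂ => V_of_iso e₁ (V_left hS (key h₃) h₂)⟩

end Groth.Agent.LinSub
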