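import Groth.Agent.LinSub.Apps
import Groth.Agent.RegSec14.Cut
import Groth.Agent.SDiv28.IsoCriterion
import Groth.Agent.ProjLib.ProjSpace
import Groth.Agent.HodgeQ27.HypSec
import Groth.Agent.HodgeQ27.Restrict
import Groth.Agent.CurveRR24.Section
import Groth.Agent.Coherent.ProperFinite
import Mathlib.AlgebraicGeometry.AlgClosed.Basic

/-!
# Bundles trivial on every line through a point

On the plane the pencil of lines through the point makes multiplication `H¹(E(-2)) → H¹(E(-1))` bijective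
for every form of the pencil, so `H¹(E(-1)) = 0`; hence all `H¹(E(t))` vanish and `E` splits.
-/

set_option autoImplicit false
set_option linter.style.haveILetI false
set_option linter.unusedSectionVars false
set_option backward.isDefEq.respectTransparency.types false
set_option maxHeartbeats 1000000

universe u

open CategoryTheory CategoryTheory.Limits AlgebraicGeometry TopologicalSpace Opposite
open Groth.Agent Groth.Agent.Coherent Groth.Agent.PicLib Groth.Agent.AmpleLib Groth.Agent.CAlgH3.ModCohSeq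

namespace Groth.Agent.LinSub

section general

variable {X : Scheme.{u}}

theorem mulSec_add {P : X.Modules} (M : X.Modules) (b b' : Γ(P, ⊤)) :
    EulerLib.mulSec M (b + b') = EulerLib.mulSec M b + EulerLib.mulSec M b' :=
  Scheme.Modules.hom_ext _ _ fun U => ConcreteCategory.hom_ext _ _ fun a => by
    rw [Scheme.Modules.Hom.add_app, EulerLib.mulSec_app, map_add, tmul_add_right]
    rfl

theorem mulSec_smul {P : X.Modules} (M : X.Modules) (r : Γ(X, ⊤)) (b : Γ(P, ⊤)) :
    EulerLib.mulSec M (r • b) = EulerLib.mulSec M b ≫ EulerLib.smulMod _ r :=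
  Scheme.Modules.hom_ext _ _ fun U => ConcreteCategory.hom_ext _ _ fun a => by
    rw [Scheme.Modules.Hom.comp_app, ConcreteCategory.comp_apply, EulerLib.mulSec_app, EulerLib.mulSec_app,
      resM_smul, tmul_smul_right]
    exact (EulerLib.smulMod_app _ _ _ _).symm

variable (k : Type u) [Field k] [X.Over (Spec (CommRingCat.of k))]

theorem hmap_mulSec_lin {P : X.Modules} (M : X.Modules) (b b' : Γ(P, ⊤)) (a : k) (q : ℕ) :
    SerreDual.hmap k (EulerLib.mulSec M (b + (show Γ(X, ⊤) from Coh.toGlobal (X ↘ Spec (CommRingCat.of k)) a) • b')) q =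
      SerreDual.hmap k (EulerLib.mulSec M b) q + a • SerreDual.hmap k (EulerLib.mulSec M b') q := by
  rw [mulSec_add, mulSec_smul, SerreDual.hmap_add, SerreDual.hmap_comp, SerreDual.hmap_smulMod,
    LinearMap.smul_comp, LinearMap.id_comp]

theorem bijective_hmap_iso {M N : X.Modules} (e : M ≅ N) (q : ℕ) : Function.Bijective (SerreDual.hmap k e.hom q) :=
  (SerreDual.hmapIso (k := k) e q).bijective

theorem nonempty_cl_tensor {L : X.Modules} (J : X.IdealSheafData) (M : X.Modules) :
    Nonempty (CohB1.tensorMod (RegSec14.cl J M) L ≅ RegSec14.cl J (CohB1.tensorMod M L)) := by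
  exact ⟨@asIso _ _ _ _ (DCat.ClosedPush.projMap J.subschemeι ((Scheme.Modules.pullback J.subschemeι).obj M) L)
      (DCat.ClosedPush.isIso_projMap _ _ _) ≪≫
    (Scheme.Modules.pushforward J.subschemeι).mapIso (DCat.PullTensor.pullTensorIso J.subschemeι M L).symm⟩

/-- Multiplication by a section is bijective on `H¹` when the restriction to its zero scheme is acyclic. -/
theorem bijective_mulSec [IsIntegral X] [IsLocallyNoetherian X] {L : X.Modules} (hL : PicF.IsInvertible L)
    {M : X.Modules} (hM : FlatMod.IsFinLocFree M) (σ : Coh.structureModule X ⟶ L) (hσ : unitVal σ ⊤ ≠ 0)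
    (h0 : V (RegSec14.cl (PicF2.zeroScheme L σ) (CohB1.tensorMod M L)) 0)
    (h1 : V (RegSec14.cl (PicF2.zeroScheme L σ) (CohB1.tensorMod M L)) 1) :
    Function.Bijective (SerreDual.hmap k (EulerLib.mulSec M (unitVal σ ⊤)) 1) := by
  haveI := CAlgH3.LocFreeFactor.isQCoh_of_finLocFree hM
  haveI : IsIso (⊥ : X.IdealSheafData).subschemeι := inferInstance
  haveI := CI14.isIso_clUnit_of_isIso (⊥ : X.IdealSheafData).subschemeι M
  let θ : M ≅ RegSec14.cl ⊥ M := asIso (clUnit (⊥ : X.IdealSheafData).subschemeι M)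
  have hreg : ∀ x, Curv2.IsAssPoint (RegSec14.cl ⊥ M) x → x ∉ (PicF2.zeroScheme L σ).support := by
    intro x hx
    have hxM : x ∈ AssSch.Ass M :=
      (LinearEquiv.isAssociatedPrime_iff ((DerSch.stalkFunctor X x).mapIso θ).toLinearEquiv).2 hx
    haveI := Props12.free_stalk_of_isFinLocFree M hM x
    have htf : NoZeroSMulDivisors ↑(X.presheaf.stalk x) ↑(M.presheaf.stalk x) :=
      ⟨fun {c v} h => smul_eq_zero.1 h⟩
    rw [SDiv28.eq_genericPoint_of_mem_ass_of_noZeroSMulDivisors M htf hxM]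
    intro h
    exact (HodgeQ27.mem_support_zeroScheme_iff hL σ _).1 h (CurveRR24.genericPoint_mem_glocus hL hσ)
  obtain ⟨r, hr⟩ := RegSec14.exists_trans (bot_le : (⊥ : X.IdealSheafData) ≤ PicF2.zeroScheme L σ) M
  obtain ⟨w, hS⟩ := RegSec14.cut_shortExact hL σ ⊥ M
    (CAlgH3.LocFreeFactor.isQCoh_of_finLocFree (FlatModLocFreeIso θ hM)) hreg (bot_sup_eq _).symm r hr
  obtain ⟨c⟩ := nonempty_cl_tensor (L := L) (PicF2.zeroScheme L σ) M
  have hb : Function.Bijective (SerreDual.hmap k (EulerLib.mulSec (RegSec14.cl ⊥ M) (unitVal σ ⊤)) 1) :=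
    ⟨SerreDual.hmap_injective_of_shortExact k hS 0 (V_of_iso c.symm h0), fun y => by
      obtain ⟨x, hx⟩ := surj_f k hS (V_of_iso c.symm h1) y
      exact ⟨x, hx⟩⟩
  have e := congrArg (fun z => SerreDual.hmap k z 1) (Mumford23.mulSec_naturality θ.hom (unitVal σ ⊤))
  simp only [SerreDual.hmap_comp] at e
  have h2 : Function.Bijective (SerreDual.hmap k (AmpleLib.tensorMap θ.hom (𝟙 L)) 1) :=
    bijective_hmap_iso k (AmpleLib.tensorIso θ (Iso.refl L)) 1
  have h3 : Function.Bijective (SerreDual.hmap k (AmpleLib.tensorMap θ.hom (𝟙 L)) 1 ∘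
      SerreDual.hmap k (EulerLib.mulSec M (unitVal σ ⊤)) 1) := by
    rw [← LinearMap.coe_comp, e, LinearMap.coe_comp]
    exact hb.comp (bijective_hmap_iso k θ 1)
  exact h2.of_comp_iff' _ |>.1 h3
where
  FlatModLocFreeIso {M N : X.Modules} (e : M ≅ N) (h : FlatMod.IsFinLocFree M) : FlatMod.IsFinLocFree N := fun x => by
    obtain ⟨U, n, hx, ⟨f⟩⟩ := h x
    exact ⟨U, n, hx, ⟨(Scheme.Modules.restrictFunctor U.ι).mapIso e.symm ≪≫ f⟩⟩
  surj_f (k : Type u) [Field k] [X.Over (Spec (CommRingCat.of k))] {S : ShortComplex X.Modules} (hS : S.ShortExact)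
      (h : Subsingleton (Coh.HH X S.X₃ 1)) : Function.Surjective (SerreDual.hmap k S.f 1) := fun z =>
    (SerreDual.exact_hmap k hS 1 z).1 (h.elim _ _)

/-- A pencil of sections acting bijectively on `H¹` forces the target to vanish. -/
theorem subsingleton_of_pencil [IsAlgClosed k] {P : X.Modules} (M : X.Modules) (b₁ b₂ : Γ(P, ⊤))
    [Module.Finite k (Coh.HH X (CohB1.tensorMod M P) 1)]
    (h₂ : Function.Bijective (SerreDual.hmap k (EulerLib.mulSec M b₂) 1))
    (h : ∀ a : k, Function.Injective (SerreDual.hmap k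
      (EulerLib.mulSec M (b₁ + (show Γ(X, ⊤) from Coh.toGlobal (X ↘ Spec (CommRingCat.of k)) a) • b₂)) 1)) :
    Subsingleton (Coh.HH X (CohB1.tensorMod M P) 1) := by
  by_contra hs
  haveI := not_subsingleton_iff_nontrivial.1 hs
  have hlt := HodgeQ27.finrank_lt_of_pencil (SerreDual.hmap k (EulerLib.mulSec M b₁) 1)
    (SerreDual.hmap k (EulerLib.mulSec M b₂) 1) h₂.1 fun a => by
      have h' := h (-a)
      rwa [hmap_mulSec_lin, neg_smul, ← sub_eq_add_neg] at h'
  have := (LinearEquiv.ofBijective _ h₂).finrank_eq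
  omega

end general

variable {k : Type u} [Field k]

theorem exists_point [IsAlgClosed k] {n : ℕ} (x : CohB1.ProjSpace n k) (hx : IsClosed ({x} : Set (CohB1.ProjSpace n k))) :
    ∃ i : CohB1.ProjSpace 0 k ⟶ CohB1.ProjSpace n k, IsClosedImmersion i ∧
      i ≫ CohB1.ProjSpace.toSpec n k = CohB1.ProjSpace.toSpec 0 k ∧
      Nonempty ((Scheme.Modules.pullback i).obj (Twist.twistProjSpace n k 1) ≅ Twist.twistProjSpace 0 k 1) ∧
      ∀ y, i y = x := by
  haveI : IsProper (CohB1.ProjSpace.toSpec n k) := isProper_projSpace_toSpec n k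
  haveI := ProjLib.isIso_toSpec_zero k
  let p := pointOfClosedPoint (CohB1.ProjSpace.toSpec n k) x hx
  haveI : IsClosedImmersion p := isClosedImmersion_of_comp_eq_id _ _ (pointOfClosedPoint_comp _ x hx)
  let i := CohB1.ProjSpace.toSpec 0 k ≫ p
  refine ⟨i, inferInstance, ?_, ?_, fun y => pointOfClosedPoint_apply _ x hx _⟩
  · exact (Category.assoc _ _ _).trans ((congrArg (_ ≫ ·) (pointOfClosedPoint_comp _ x hx)).trans (Category.comp_id _))
  · obtain ⟨a⟩ := SplitP.split_zero (K := k) (PicLib.isFinLocFreeOfRank_one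
      (PicLoc.isInvertible_pullback i (HypLib.isInvertible_one (R := k) n)))
    obtain ⟨b⟩ := SplitP.split_zero (K := k) (PicLib.isFinLocFreeOfRank_one (HypLib.isInvertible_one (R := k) 0))
    exact ⟨a ≪≫ b.symm⟩

attribute [local instance] Coherent.hasFiniteBiproducts in
/-- A split bundle trivial on a linear subspace of positive dimension is trivial. -/
theorem trivial_of_split {m n r : ℕ} (hm : 1 ≤ m) (i : CohB1.ProjSpace m k ⟶ CohB1.ProjSpace n k)
    (hO : Nonempty ((Scheme.Modules.pullback i).obj (Twist.twistProjSpace n k 1) ≅ Twist.twistProjSpace m k 1))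
    {E : (CohB1.ProjSpace n k).Modules}
    (he : Nonempty ((Scheme.Modules.pullback i).obj E ≅ FlatMod.freeMod (CohB1.ProjSpace m k) r))
    (b : Fin r → ℤ) (eb : E ≅ ∐ fun j : Fin r => Twist.twistProjSpace n k (b j)) :
    Nonempty (E ≅ FlatMod.freeMod (CohB1.ProjSpace n k) r) := by
  obtain ⟨e⟩ := he
  haveI := (Scheme.Modules.pullbackPushforwardAdjunction i).leftAdjoint_preservesColimits
  obtain ⟨z⟩ := TwistLib.nonempty_twist_zero_iso (𝒜 := CohB1.polyGrading m k)
  obtain ⟨zn⟩ := TwistLib.nonempty_twist_zero_iso (𝒜 := CohB1.polyGrading n k)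
  let G := (Scheme.Modules.pullback i).obj E
  let f : G ≅ ⨁ fun j : Fin r => Twist.twistProjSpace m k (b j) :=
    (Scheme.Modules.pullback i).mapIso eb ≪≫ PreservesCoproduct.iso _ _ ≪≫
      Sigma.mapIso (fun j => (pullback_twist i hO (b j)).some) ≪≫ (biproduct.isoCoproduct _).symm
  have hv : ∀ (t : ℤ) (q : ℕ), Subsingleton (Coh.HH (CohB1.ProjSpace m k) (Twist.twistProjSpace m k (0 + t)) q) →
      V (SplitP.tw G t) q := fun t q h =>
    V_tw_split (fun _ => 0) (e ≪≫ Sigma.mapIso fun _ => z.symm) t q fun _ => h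
  have hret : ∀ (j : Fin r) (t : ℤ) (q : ℕ), V (SplitP.tw G t) q →
      Subsingleton (Coh.HH (CohB1.ProjSpace m k) (Twist.twistProjSpace m k (b j + t)) q) := by
    intro j t q h
    obtain ⟨c⟩ := SplitP.nonempty_tw_twist (K := k) (d := m) (rfl : b j + t = b j + t)
    have h1 := SplitP.subsingleton_HH_tw_retract (biproduct.ι (fun j : Fin r => Twist.twistProjSpace m k (b j)) j ≫ f.inv)
      (f.hom ≫ biproduct.π (fun j : Fin r => Twist.twistProjSpace m k (b j)) j) (by simp) t q h
    exact SplitP.subsingleton_HH_retract c.inv c.hom c.inv_hom_id q h1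
  have hb : ∀ j, b j = 0 := fun j => by
    rcases lt_trichotomy (b j) 0 with hlt | heq | hgt
    · exfalso
      obtain ⟨l, hl⟩ : ∃ l : ℕ, b j + -(m : ℤ) = -((m : ℤ) + 1 + l) := ⟨(-b j - 1).natAbs, by omega⟩
      have h1 := hret j (-(m : ℤ)) m (hv _ m (subsingleton_HH_twist (n := m) (R := k) (d := 0 + -(m : ℤ)) m
        (fun h => by omega) (fun h => by omega)))
      rw [hl] at h1
      exact SplitP.not_subsingleton_HH_top (K := k) (d := m) l h1
    · exact heq
    · exfalso
      refine SplitP.not_subsingleton_HH_zero (K := k) (d := m) (m := -b j)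
        (F := Twist.twistProjSpace m k (b j)) (eqToHom (by rw [neg_neg])) (eqToHom (by rw [neg_neg])) (by simp) ?_
      obtain ⟨c⟩ := SplitP.nonempty_tw_twist (K := k) (d := m) (rfl : b j + -b j = b j + -b j)
      exact SplitP.subsingleton_HH_retract c.hom c.inv c.hom_inv_id 0
        (hret j (-b j) 0 (hv _ 0 (subsingleton_HH_twist (n := m) (R := k) (d := 0 + -b j) 0
          (fun h => by omega) (fun h => by omega))))
  exact ⟨eb ≪≫ Sigma.mapIso fun j => eqToIso (congrArg (Twist.twistProjSpace n k) (hb j)) ≪≫ zn⟩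

end Groth.Agent.LinSub
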