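import Groth.Agent.LinSub.Lines

/-!
# A bundle trivial on all lines through a point is trivial
-/

set_option autoImplicit false
set_option linter.style.haveILetI false
set_option linter.unusedSectionVars false
set_option backward.isDefEq.respectTransparency.types false
set_option maxHeartbeats 1000000

universe u

open CategoryTheory CategoryTheory.Limits AlgebraicGeometry TopologicalSpace Opposite
open Groth.Agent Groth.Agent.Coherent Groth.Agent.PicLib Groth.Agent.AmpleLib Groth.Agent.CAlgH3.ModCohSeq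

namespace Groth.Agent.LinSub

variable {k : Type u} [Field k] [IsAlgClosed k]

attribute [local instance] Coherent.hasFiniteBiproducts in
/-- The plane: the first cohomology of `E(-1)` vanishes. -/
theorem h1_vanishing_plane {r : ℕ} {E : (CohB1.ProjSpace (1 + 1) k).Modules} (hloc : FlatMod.IsFinLocFree E)
    (i₀ : CohB1.ProjSpace 0 k ⟶ CohB1.ProjSpace (1 + 1) k) [IsClosedImmersion i₀]
    (hi₀ : i₀ ≫ CohB1.ProjSpace.toSpec (1 + 1) k = CohB1.ProjSpace.toSpec 0 k)
    (hO₀ : Nonempty ((Scheme.Modules.pullback i₀).obj (Twist.twistProjSpace (1 + 1) k 1) ≅ Twist.twistProjSpace 0 k 1))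
    (hline : ∀ (i : CohB1.ProjSpace 1 k ⟶ CohB1.ProjSpace (1 + 1) k) [IsClosedImmersion i],
      i ≫ CohB1.ProjSpace.toSpec (1 + 1) k = CohB1.ProjSpace.toSpec 1 k →
      Nonempty ((Scheme.Modules.pullback i).obj (Twist.twistProjSpace (1 + 1) k 1) ≅ Twist.twistProjSpace 1 k 1) →
      Set.range i₀ ⊆ Set.range i →
      Nonempty ((Scheme.Modules.pullback i).obj E ≅ FlatMod.freeMod (CohB1.ProjSpace 1 k) r)) :
    V (SplitP.tw E (-1)) 1 := by
  haveI : IsProper ((CohB1.ProjSpace (1 + 1) k) ↘ Spec (CommRingCat.of k)) := isProper_projSpace_toSpec (1 + 1) k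
  haveI := EulerLib.isNoetherian_of_proper (k := k) (X := CohB1.ProjSpace (1 + 1) k)
  haveI := CurveLib.isIntegral_projSpace k (1 + 1)
  obtain ⟨W, hW, hforms⟩ := exists_forms i₀ hi₀ hO₀
  have h2 : 2 ≤ Module.finrank k W := by omega
  let M := SplitP.tw E (-2)
  have hM : FlatMod.IsFinLocFree M := ExtFilt28.isFinLocFree_tensor hloc (EulerPn5.isFinLocFree_twist _)
  let O1 := Twist.twistProjSpace (1 + 1) k 1
  let T := CohB1.tensorMod M O1
  obtain ⟨eT⟩ := SplitP.nonempty_tw_tw E (show (-2 : ℤ) + 1 = -1 by norm_num)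
  let μ : (Fin (1 + 1 + 1) → k) → (Coh.HH _ M 1 →ₗ[k] Coh.HH _ T 1) := fun c =>
    SerreDual.hmap k (EulerLib.mulSec (P := O1) M (HypLib.lsec (1 + 1) c)) 1
  have hbij : ∀ c ∈ W, c ≠ 0 → Function.Bijective (μ c) := by
    intro c hc hc0
    obtain ⟨hs, hsi⟩ := hforms c hc hc0
    set σ := unitDesc O1 (HypLib.lsec (1 + 1) c) with hσdef
    have hL := HypLib.isInvertible_one (R := k) (1 + 1)
    obtain ⟨φ, i', _, -, -, hfac, hφ, hjO, -, -⟩ := exists_factor_of_section i₀ hi₀ hO₀ σ hs hsi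
    obtain ⟨e⟩ := hline (φ.hom ≫ (PicF2.zeroScheme O1 σ).subschemeι) hφ hjO (by
      rintro _ ⟨y, rfl⟩
      exact ⟨i' y, congrArg (fun f : CohB1.ProjSpace 0 k ⟶ CohB1.ProjSpace (1 + 1) k => f y) hfac⟩)
    obtain ⟨z⟩ := TwistLib.nonempty_twist_zero_iso (𝒜 := CohB1.polyGrading 1 k)
    have hcl : ∀ q : ℕ, q ≤ 1 → V (RegSec14.cl (PicF2.zeroScheme O1 σ) T) q := fun q hq => by
      have h := V_push (PicF2.zeroScheme O1 σ) φ hjO hloc (-1) q
        (V_tw_split (fun _ => 0) (e ≪≫ Sigma.mapIso fun _ => z.symm) (-1) q fun _ =>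
          subsingleton_HH_twist (n := 1) (R := k) (d := 0 + -1) q (fun h => by omega) (fun h => by omega))
      exact V_of_iso ((Scheme.Modules.pushforward _).mapIso ((Scheme.Modules.pullback _).mapIso eT.symm)) h
    have hval : unitVal σ ⊤ = HypLib.lsec (1 + 1) c := by rw [hσdef, unitVal_unitDesc, resM_self]
    have hne : unitVal σ ⊤ ≠ 0 := fun h => hs (by
      rw [← unitDesc_unitVal σ, h, show (0 : Γ(O1, ⊤)) = unitVal (0 : Coh.structureModule _ ⟶ O1) ⊤ from rfl,
        unitDesc_unitVal])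
    have hb := bijective_mulSec k hL hM σ hne (hcl 0 zero_le_one) (hcl 1 le_rfl)
    rw [hval] at hb
    exact hb
  obtain ⟨v₁, v₂, hind⟩ : ∃ v₁ v₂ : W, ∀ a : k, (v₁ : Fin (1 + 1 + 1) → k) + a • v₂ ≠ 0 ∧ (v₂ : Fin (1 + 1 + 1) → k) ≠ 0 := by
    let B := Module.finBasis k W
    refine ⟨B ⟨0, by omega⟩, B ⟨1, by omega⟩, fun a => ⟨fun h => ?_, fun h => B.ne_zero ⟨1, by omega⟩ (Subtype.ext h)⟩⟩
    have h' : B ⟨0, by omega⟩ + a • B ⟨1, by omega⟩ = 0 := Subtype.ext h
    have := congrArg (fun w => B.repr w ⟨0, by omega⟩) h'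
    simp [Finsupp.single_apply] at this
  have hT : Coh.IsCoh T := CohBC.isCoh_of_isFinLocFree
    (ExtFilt28.isFinLocFree_tensor hM (EulerPn5.isFinLocFree_twist _))
  haveI : Module.Finite k (Coh.HH (CohB1.ProjSpace (1 + 1) k) T 1) := by
    haveI := finCoh_of_isProper ((CohB1.ProjSpace (1 + 1) k) ↘ Spec (CommRingCat.of k)) T hT 1
    exact Module.Finite.equiv (EulerLib.HHBaseEquiv k _ 1).symm
  refine V_of_iso eT (subsingleton_of_pencil k (P := O1) M (HypLib.lsec (1 + 1) (v₁ : Fin (1 + 1 + 1) → k))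
    (HypLib.lsec (1 + 1) (v₂ : Fin (1 + 1 + 1) → k)) (hbij _ v₂.2 (hind 0).2) fun a => ?_)
  have hl := (HypLib.lsec_add (1 + 1) (v₁ : Fin (1 + 1 + 1) → k) (a • (v₂ : Fin (1 + 1 + 1) → k))).trans
    (congrArg _ (lsec_smul (1 + 1) a (v₂ : Fin (1 + 1 + 1) → k)))
  have h := (hbij _ (add_mem v₁.2 (W.smul_mem a v₂.2)) (hind a).1).1
  simp only [μ] at h
  rwa [hl] at h

attribute [local instance] Coherent.hasFiniteBiproducts in
/-- A bundle trivial on all lines through a point is trivial. -/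
theorem trivial_of_lines {r : ℕ} : ∀ (n : ℕ) (E : (CohB1.ProjSpace n k).Modules),
    FlatMod.IsFinLocFreeOfRank r E → ∀ (x : CohB1.ProjSpace n k), IsClosed ({x} : Set (CohB1.ProjSpace n k)) →
    (∀ (i : CohB1.ProjSpace 1 k ⟶ CohB1.ProjSpace n k) [IsClosedImmersion i],
      i ≫ CohB1.ProjSpace.toSpec n k = CohB1.ProjSpace.toSpec 1 k →
      Nonempty ((Scheme.Modules.pullback i).obj (Twist.twistProjSpace n k 1) ≅ Twist.twistProjSpace 1 k 1) →
      x ∈ Set.range i.base →
      Nonempty ((Scheme.Modules.pullback i).obj E ≅ FlatMod.freeMod (CohB1.ProjSpace 1 k) r)) →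
    Nonempty (E ≅ FlatMod.freeMod (CohB1.ProjSpace n k) r) := by
  intro n
  induction n with
  | zero =>
    intro E hE x _ _
    obtain ⟨e⟩ := SplitP.split_zero hE
    obtain ⟨z⟩ := TwistLib.nonempty_twist_zero_iso (𝒜 := CohB1.polyGrading 0 k)
    exact ⟨e ≪≫ Sigma.mapIso fun _ => z⟩
  | succ n ih =>
    intro E hE x hx h
    obtain ⟨i₀, _, hi₀, hO₀, hx₀⟩ := exists_point x hx
    have hloc : FlatMod.IsFinLocFree E := LocFreeLib.isFinLocFree_of_rank hE
    rcases Nat.eq_zero_or_pos n with rfl | hn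
    · obtain ⟨e⟩ := h (𝟙 _) (Category.id_comp _) ⟨(Scheme.Modules.pullbackId _).app _⟩ ⟨x, rfl⟩
      exact ⟨((Scheme.Modules.pullbackId _).app E).symm ≪≫ e⟩
    -- a hyperplane through the point
    obtain ⟨s, hs, hsi⟩ := exists_section i₀ hi₀ hO₀ (Nat.zero_le n)
    obtain ⟨φ, i₀', _, hi₀', hO₀', hfac, hφ, hjO, hJ, hJe⟩ := exists_factor_of_section i₀ hi₀ hO₀ s hs hsi
    let J := PicF2.zeroScheme (Twist.twistProjSpace (n + 1) k 1) s
    let j := φ.hom ≫ J.subschemeι
    haveI : IsClosedImmersion j := inferInstanceAs (IsClosedImmersion (φ.hom ≫ J.subschemeι))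
    have y₀ : CohB1.ProjSpace 0 k :=
      haveI := CurveLib.isIntegral_projSpace k 0
      genericPoint (CohB1.ProjSpace 0 k)
    have hy₀ : j (i₀' y₀) = x :=
      (congrArg (fun f : CohB1.ProjSpace 0 k ⟶ CohB1.ProjSpace (n + 1) k => f y₀) hfac).trans (hx₀ y₀)
    have hc' : IsClosed ({i₀' y₀} : Set (CohB1.ProjSpace n k)) := by
      have : j ⁻¹' {x} = {i₀' y₀} := Set.ext fun z =>
        ⟨fun hz => j.isClosedEmbedding.injective ((Set.mem_singleton_iff.1 hz).trans hy₀.symm),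
          fun hz => by rw [Set.mem_singleton_iff.1 hz]; exact hy₀⟩
      rw [← this]
      exact hx.preimage j.continuous
    have hEH : Nonempty ((Scheme.Modules.pullback j).obj E ≅ FlatMod.freeMod (CohB1.ProjSpace n k) r) := by
      refine ih _ (VarietyLib.isFinLocFreeOfRank_pullback j hE) (i₀' y₀) hc' fun i _ hi hO hxi => ?_
      obtain ⟨y, hy⟩ := hxi
      obtain ⟨a⟩ := hjO
      obtain ⟨b⟩ := hO
      obtain ⟨e⟩ := h (i ≫ j) (by rw [Category.assoc, hφ, hi])
        ⟨((Scheme.Modules.pullbackComp i j).app _).symm ≪≫ (Scheme.Modules.pullback i).mapIso a ≪≫ b⟩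
        ⟨y, (congrArg j hy).trans hy₀⟩
      exact ⟨(Scheme.Modules.pullbackComp i j).app E ≪≫ e⟩
    -- splitting
    have hsplit : ∃ b : Fin r → ℤ, Nonempty (E ≅ ∐ fun l : Fin r => Twist.twistProjSpace (n + 1) k (b l)) := by
      rcases eq_or_lt_of_le (show 1 ≤ n from hn) with hn1 | hn1
      · subst hn1
        haveI : IsProper ((CohB1.ProjSpace (1 + 1) k) ↘ Spec (CommRingCat.of k)) := isProper_projSpace_toSpec (1 + 1) k
        haveI := EulerLib.isNoetherian_of_proper (k := k) (X := CohB1.ProjSpace (1 + 1) k)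
        have h1 := h1_vanishing_plane (r := r) hloc i₀ hi₀ hO₀ fun i _ hi hO hr =>
          h i hi hO (by rw [← hx₀ y₀]; exact hr ⟨y₀, rfl⟩)
        obtain ⟨e⟩ := hEH
        obtain ⟨z⟩ := TwistLib.nonempty_twist_zero_iso (𝒜 := CohB1.polyGrading 1 k)
        have hres : ∀ (t : ℤ) (q : ℕ), Subsingleton (Coh.HH (CohB1.ProjSpace 1 k) (Twist.twistProjSpace 1 k (0 + t)) q) →
            V (SplitP.tw ((Scheme.Modules.pullback j).obj E) t) q := fun t q hq =>
          V_tw_split (fun _ => 0) (e ≪≫ Sigma.mapIso fun _ => z.symm) t q fun _ => hq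
        have hall : ∀ t : ℤ, V (SplitP.tw E t) 1 := by
          intro t
          rcases le_or_gt (-1 : ℤ) t with hge | hlt
          · obtain ⟨d, rfl⟩ : ∃ d : ℕ, t = -1 + (d : ℤ) := ⟨(t + 1).natAbs, by omega⟩
            clear hge
            induction d with
            | zero => rwa [Nat.cast_zero, add_zero]
            | succ d ihd =>
              refine (restrict_vanishing J φ hJ hJe hjO hloc _ 1).1 ?_ (hres _ 1
                (subsingleton_HH_twist (n := 1) (R := k) (d := 0 + (-1 + ((d + 1 : ℕ) : ℤ))) 1 (fun h => by omega)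
                  (fun h => by omega)))
              rw [show (-1 : ℤ) + ((d + 1 : ℕ) : ℤ) - 1 = -1 + d by push_cast; ring]
              exact ihd
          · obtain ⟨d, rfl⟩ : ∃ d : ℕ, t = -1 - (d : ℤ) := ⟨(-1 - t).natAbs, by omega⟩
            clear hlt
            induction d with
            | zero => rwa [Nat.cast_zero, sub_zero]
            | succ d ihd =>
              have h2 := (restrict_vanishing J φ hJ hJe hjO hloc (-1 - (d : ℤ)) 0).2 (hres _ 0
                (subsingleton_HH_twist (n := 1) (R := k) (d := 0 + (-1 - (d : ℤ))) 0 (fun h => by omega)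
                  (fun h => by omega))) ihd
              rwa [show (-1 : ℤ) - ((d + 1 : ℕ) : ℤ) = -1 - d - 1 by push_cast; ring]
        have hcoh : Coh.IsCoh E := CohBC.isCoh_of_isFinLocFree hloc
        obtain ⟨n₀, hn₀⟩ := SplitP.exists_vanishing_zero (K := k) (d := 1 + 1) (by omega) hcoh hloc
        obtain ⟨s', b, ⟨eb⟩⟩ := SplitP.exists_split (by omega) n₀ _ E hcoh hn₀
          (fun t q h1' h2' => by obtain rfl : q = 1 := by omega
                                 exact hall t) le_rfl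
        haveI := CurveLib.isIntegral_projSpace k (1 + 1)
        obtain rfl := SplitP.card_eq_rank hE b eb (genericPoint (CohB1.ProjSpace (1 + 1) k))
        exact ⟨b, ⟨eb ≪≫ biproduct.isoCoproduct _⟩⟩
      · obtain ⟨e⟩ := hEH
        obtain ⟨z⟩ := TwistLib.nonempty_twist_zero_iso (𝒜 := CohB1.polyGrading n k)
        exact split_of_split (m := n) hn1 (n + 1) E hE j hφ hjO ⟨fun _ => 0, ⟨e ≪≫ Sigma.mapIso fun _ => z.symm⟩⟩
    obtain ⟨b, ⟨eb⟩⟩ := hsplit
    exact trivial_of_split (show 1 ≤ n from hn) j hjO hEH b eb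

end Groth.Agent.LinSub
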